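import Groth.Agent.Lib.MultHopf14.Lift
import Groth.Agent.Lib.MultHopf14.FgCharts
import Groth.Agent.Lib.MultDef14.Spec
import Groth.Agent.Lib.MultDef14.HomOfPt
import Groth.Agent.Lib.MultDef14.TransporterLift
import Groth.Agent.Lib.Deform6.Main
import Groth.Agent.Lib.DiagGrp.TrivialLocus
import Groth.Agent.Lib.DiagGrp.FlatMultType
import Groth.Agent.Lib.DiagGrp.SubgroupEq
import Groth.Agent.Lib.CentralTor14.Hom
import Groth.Agent.Lib.FibreLocus.Hom
import Groth.Agent.Lib.AlgSp.FormalSmoothDescent
import Groth.Agent.Lib.FSchSys.Basic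

/-!
Homomorphisms out of groups of multiplicative type and nilpotent thickenings of an affine base.
-/

universe u

open CategoryTheory CategoryTheory.Limits MonoidalCategory CartesianMonoidalCategory MonObj GrpObj
open AlgebraicGeometry

set_option backward.isDefEq.respectTransparency false

namespace GrothLib.MultPres14

open GrothLib.DiagGrp GrothLib.CentralTor14

variable {R : Type u} [CommRing R] {J : Ideal R}

local notation "qq" J => Spec.map (CommRingCat.ofHom (Ideal.Quotient.mk J))

theorem nil_mem (hJ : IsNilpotent J) (x : R) (hx : x ∈ J) : IsNilpotent x := by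
  obtain ⟨n, hn⟩ := hJ
  exact ⟨n, by simpa [hn] using Ideal.pow_mem_pow hx n⟩

theorem isNilpotent_ker_quot (hJ : IsNilpotent J) : IsNilpotent (qq J).ker := by
  obtain ⟨n, hn⟩ := hJ
  refine ⟨n, Scheme.IdealSheafData.ext_of_isAffine ?_⟩
  rw [Scheme.IdealSheafData.ideal_pow, Pi.pow_apply]
  erw [GrothLib.FSchSys.ideal_ker_SpecMap]
  show (Ideal.map (Scheme.ΓSpecIso (CommRingCat.of R)).inv.hom (RingHom.ker (Ideal.Quotient.mk J))) ^ n = _
  rw [← Ideal.map_pow, Ideal.mk_ker, hn, Ideal.zero_eq_bot, Ideal.map_bot]
  rfl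

/-- A homomorphism out of a group of multiplicative type trivial modulo a nilpotent ideal is trivial. -/
theorem eq_one_of_mod (hJ : IsNilpotent J) {H G : Over (Spec (CommRingCat.of R))} [GrpObj H] [GrpObj G]
    (hH : HasChartsFpqc anyM H) [IsSeparated G.hom] [LocallyOfFiniteType H.hom] (hG : LocallyOfFinitePresentation G.hom)
    (u : H ⟶ G) [IsMonHom u] (h : (Over.pullback (qq J)).map u = 1) : u = 1 := by
  haveI := isClosedImmersion_one G
  haveI := kernel_lfp u (Or.inr hG)
  obtain ⟨U, -, hU, hU1⟩ := exists_clopen_trivial u hH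
  have hT := (trivOver_iff_pullback_eq_one u _).mp h
  have htop : U = ⊤ := top_le_iff.mp fun s _ => (hU s).mpr <| (trivOver_iff_pullback_eq_one u _).mpr <| by
    set g := (Spec (CommRingCat.of R)).fromSpecResidueField s
    let φ : R →+* (Spec (CommRingCat.of R)).residueField s := (Spec.preimage g).hom
    have hφ : ∀ a ∈ J, φ a = 0 := fun a ha => ((nil_mem hJ a ha).map φ).eq_zero
    refine hT.precomp (Spec.map (CommRingCat.ofHom (Ideal.Quotient.lift J φ hφ))) _ ?_
    rw [← Spec.map_comp, ← CommRingCat.ofHom_comp, Ideal.Quotient.lift_comp_mk, CommRingCat.ofHom_hom,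
      Spec.map_preimage]
  subst htop
  have := (trivOver_iff_pullback_eq_one u _).mp hU1
  have h1 := this H ((Spec (CommRingCat.of R)).topIso.inv |> fun e => H.hom ≫ e) (by simp) (𝟙 H)
  rwa [Category.id_comp] at h1

variable {H G : Over (Spec (CommRingCat.of R))}

/-- Immersions and monomorphisms are detected modulo a nilpotent ideal. -/
theorem mono_immersion_of_mod (hJ : IsNilpotent J) [LocallyOfFiniteType H.hom] (j : H ⟶ G)
    (h : IsImmersion ((Over.pullback (qq J)).map j).left) : IsImmersion j.left ∧ Mono j := by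
  haveI := h
  haveI : IsClosedImmersion (qq J) := IsClosedImmersion.spec_of_surjective _ Ideal.Quotient.mk_surjective
  haveI : Surjective (qq J) := GrothLib.MultHopf14.surjective_specQuot (nil_mem hJ)
  haveI : IsClosedImmersion (pullback.fst G.hom (qq J)) := MorphismProperty.pullback_fst _ _ ‹_›
  haveI : Surjective (pullback.fst G.hom (qq J)) := MorphismProperty.pullback_fst _ _ ‹_›
  haveI : LocallyOfFiniteType j.left := by
    have : LocallyOfFiniteType (j.left ≫ G.hom) := by rw [Over.w j]; infer_instance
    exact locallyOfFiniteType_of_comp j.left G.hom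
  haveI : IsImmersion j.left := GrothLib.Deform6.isImmersion_of_lft
    (f := ((Over.pullback (qq J)).map j).left) (iY := pullback.fst G.hom (qq J))
    (iX := pullback.fst H.hom (qq J)) (GrothLib.FibreLocus.isPullback_map_left j _).flip
  exact ⟨inferInstance, (Over.forget _).mono_of_mono_map (show Mono j.left from inferInstance)⟩

/-- A monomorphism from a flat scheme, locally of finite presentation, that is invertible modulo a nilpotent ideal. -/
theorem isIso_of_mod (hJ : IsNilpotent J) [Flat H.hom] (f : H ⟶ G) [Mono f.left]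
    (h : IsIso ((Over.pullback (qq J)).map f)) : IsIso f := by
  haveI := h
  let q := qq J
  haveI : IsClosedImmersion q := IsClosedImmersion.spec_of_surjective _ Ideal.Quotient.mk_surjective
  haveI : Surjective q := GrothLib.MultHopf14.surjective_specQuot (nil_mem hJ)
  haveI : IsIso ((Over.pullback q).map f).left := inferInstanceAs (IsIso ((Over.forget _).map ((Over.pullback q).map f)))
  have sq := GrothLib.FibreLocus.isPullback_map_left f q
  haveI : Flat (f.left ≫ G.hom) := by rw [Over.w f]; infer_instance
  haveI : Flat f.left := GrothLib.Deform6.flat_of_deform (iS := q) (isNilpotent_ker_quot hJ)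
    (IsPullback.of_hasPullback G.hom q) sq.flip
  haveI : LocallyOfFinitePresentation f.left := GrothLib.Deform6.locallyOfFinitePresentation_of_deform
    (iS := q) (isNilpotent_ker_quot hJ) (IsPullback.of_hasPullback G.hom q) sq.flip
  haveI : IsOpenImmersion f.left := IsOpenImmersion.of_flat_of_mono f.left
  haveI : Surjective f.left := by
    haveI : Surjective (pullback.fst G.hom q) := MorphismProperty.pullback_fst _ _ ‹_›
    haveI : Surjective (pullback.fst H.hom q ≫ f.left) := by rw [sq.flip.w]; infer_instance
    exact Surjective.of_comp (pullback.fst H.hom q) f.left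
  haveI : IsIso f.left := (isIso_iff_isOpenImmersion_and_surjective f.left).mpr ⟨inferInstance, inferInstance⟩
  haveI : IsIso ((Over.forget _).map f) := ‹IsIso f.left›
  exact isIso_of_reflects_iso f (Over.forget _)

theorem map_pow_map {S S' : Scheme.{u}} (z : S' ⟶ S) {A B : Over S} [GrpObj B] (u : A ⟶ B) (n : ℕ) :
    (Over.pullback z).map (u ^ n) = (Over.pullback z).map u ^ n := by
  rw [← bcPoint_res z (u ^ n), ← bcPoint_res z u, MonObj.comp_pow]
  exact map_pow (bcPointMulEquiv z B _) _ n

theorem map_one_map {S S' : Scheme.{u}} (z : S' ⟶ S) {A B : Over S} [GrpObj B] :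
    (Over.pullback z).map (1 : A ⟶ B) = 1 := by
  rw [← bcPoint_res z (1 : A ⟶ B), MonObj.comp_one]
  exact map_one (bcPointMulEquiv z B _)

variable [GrpObj H] [GrpObj G]

/-- Conjugation by a section restricting to one does not change a homomorphism modulo the ideal. -/
theorem map_conj (j : H ⟶ G) (g : 𝟙_ (Over (Spec (CommRingCat.of R))) ⟶ G)
    (hg : toUnit (Over.mk (qq J)) ≫ g = 1) :
    (Over.pullback (qq J)).map ((toUnit H ≫ g) * j * (toUnit H ≫ g)⁻¹) = (Over.pullback (qq J)).map j := by
  rw [← bcPoint_res (qq J) _, ← bcPoint_res (qq J) j, MonObj.comp_mul, MonObj.comp_mul, GrpObj.comp_inv]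
  let k : (Over.map (qq J)).obj (Red.bc (qq J) H) ⟶ Over.mk (qq J) := Over.homMk (Red.bc (qq J) H).hom rfl
  have e : res (qq J) H ≫ toUnit H ≫ g = 1 := by
    rw [← Category.assoc, toUnit_unique (res (qq J) H ≫ toUnit H) (k ≫ toUnit _), Category.assoc, hg, MonObj.comp_one]
  rw [e, inv_one, _root_.one_mul, _root_.mul_one]

end GrothLib.MultPres14
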